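import Mathlib
import Groth.Prelude.Def_CAlg
import Groth.Agent.Lib.Helper2.Gor.CIGor
import Groth.Agent.Lib.Helper3.KosBC3
import Groth.Agent.Lib.Helper8.Serre4
import Groth.Agent.Lib.Helper8.Fib5
import Groth.Agent.Lib.Helper8.Depth9
import Groth.Agent.Lib.Helper8.Sk1
import Groth.Agent.Lib.Helper8.GorFlat11
import Groth.Agent.Lib.Helper9.GrCI3
import Groth.Agent.Lib.Helper4.DimFT1

set_option autoImplicit false
set_option linter.unusedSectionVars false
set_option linter.unusedVariables false
set_option linter.unusedSimpArgs false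
set_option linter.style.haveILetI false
set_option maxHeartbeats 400000

/-!
# Projective normality of complete intersections that are normal off the vertex
-/

universe u

namespace Groth.Agent.Lib.Helper6.ProjNorm

open MvPolynomial LocCoh IsLocalRing Groth.Agent.Lib.Helper9.GrCI

attribute [local instance] MvPolynomial.weightedGradedAlgebra

variable {k : Type u} [Field k] {n r : ℕ} (f : Fin r → MvPolynomial (Fin (n + 1)) k)
  (d : Fin r → ℕ)

/-- the ideal of the complete intersection -/
noncomputable abbrev J : Ideal (MvPolynomial (Fin (n + 1)) k) := Ideal.span (Set.range f)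

variable {f d}

theorem J_le_irr (hf : ∀ i, (f i).IsHomogeneous (d i)) (hd : ∀ i, 0 < d i) :
    J f ≤ irr k (n + 1) := by
  refine Ideal.span_le.2 ?_
  rintro _ ⟨i, rfl⟩
  show f i ∈ irr k (n + 1)
  rw [mem_irr_iff]
  rw [constantCoeff_eq]
  by_contra h0
  have h1 := hf i h0
  rw [map_zero] at h1
  have := hd i
  omega

theorem J_isHomogeneous (hf : ∀ i, (f i).IsHomogeneous (d i)) :
    (J f).IsHomogeneous (weightedHomogeneousSubmodule k (1 : Fin (n + 1) → ℕ)) := by
  refine Ideal.homogeneous_span _ _ ?_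
  rintro _ ⟨i, rfl⟩
  exact ⟨d i, hf i⟩

theorem ofList_ofFn_eq : Ideal.ofList (List.ofFn f) = J f := by
  unfold Ideal.ofList J
  congr 1
  ext x
  simp [List.mem_ofFn]

theorem isPrime_irr_map (hle : J f ≤ irr k (n + 1)) :
    ((irr k (n + 1)).map (Ideal.Quotient.mk (J f))).IsPrime :=
  Ideal.map_isPrime_of_surjective Ideal.Quotient.mk_surjective (by rwa [Ideal.mk_ker])

/-- the vertex of the cone has height at least `n + 1 - r` -/
theorem le_height_vertex_add (hle : J f ≤ irr k (n + 1)) :
    ((n + 1 : ℕ) : ℕ∞) ≤ ((irr k (n + 1)).map (Ideal.Quotient.mk (J f))).height + r := by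
  haveI := isPrime_irr_map hle
  set q := irr k (n + 1) with hq
  set A := Localization.AtPrime q with hA
  set xs := (List.ofFn f).map (algebraMap (MvPolynomial (Fin (n + 1)) k) A) with hxs
  have hmem : ∀ x ∈ xs, x ∈ maximalIdeal A := by
    intro x hx
    obtain ⟨y, hy, rfl⟩ := List.mem_map.1 hx
    obtain ⟨i, rfl⟩ := List.mem_ofFn.1 hy
    exact (IsLocalization.AtPrime.to_map_mem_maximal_iff A q _).2
      (hle (Ideal.subset_span ⟨i, rfl⟩))
  have h1 := Groth.Agent.Helper8.Depth.supportDim_le_add_length xs hmem A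
  have hlen : xs.length = r := by rw [hxs, List.length_map, List.length_ofFn]
  rw [hlen] at h1
  have h2 : Module.supportDim A A = ((n + 1 : ℕ) : WithBot ℕ∞) := by
    rw [Module.supportDim_self_eq_ringKrullDim,
      IsLocalization.AtPrime.ringKrullDim_eq_height q A,
      Groth.Agent.Lib.Helper4.DimFT1.mvPolynomial_height_of_isMaximal k (n + 1) q]
    rfl
  have h3 : (Ideal.ofList xs • (⊤ : Submodule A A)) =
      (J f).map (algebraMap (MvPolynomial (Fin (n + 1)) k) A) := by
    rw [smul_eq_mul, Ideal.mul_top, hxs, Groth.Agent.Helper3.KosBC.ofList_map, ofList_ofFn_eq]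
  have h4 : Module.supportDim A (A ⧸ (Ideal.ofList xs • (⊤ : Submodule A A))) =
      ((q.map (Ideal.Quotient.mk (J f))).height : WithBot ℕ∞) := by
    rw [Module.supportDim_eq_of_equiv (Submodule.quotEquivOfEq _ _ h3)]
    have h5 : Module.supportDim A (A ⧸ (J f).map (algebraMap (MvPolynomial (Fin (n + 1)) k) A)) =
        ringKrullDim (A ⧸ (J f).map (algebraMap (MvPolynomial (Fin (n + 1)) k) A)) :=
      Module.supportDim_quotient_eq_ringKrullDim _
    rw [h5, ← ringKrullDim_eq_of_ringEquiv
      (Groth.Agent.Helper8.Sk.locQuotEquiv (MvPolynomial (Fin (n + 1)) k) (J f) q hle)]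
    exact IsLocalization.AtPrime.ringKrullDim_eq_height (q.map (Ideal.Quotient.mk (J f)))
      (Localization.AtPrime (q.map (Ideal.Quotient.mk (J f))))
  rw [h2, h4] at h1
  exact_mod_cast h1

/-- the localization of the cone at the vertex is injective -/
theorem injective_algebraMap_vertex (hf : ∀ i, (f i).IsHomogeneous (d i))
    (hle : J f ≤ irr k (n + 1)) :
    haveI := isPrime_irr_map hle
    Function.Injective (algebraMap (MvPolynomial (Fin (n + 1)) k ⧸ J f)
      (Localization.AtPrime ((irr k (n + 1)).map (Ideal.Quotient.mk (J f))))) := by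
  haveI := isPrime_irr_map hle
  rw [injective_iff_map_eq_zero]
  intro x hx
  rw [IsLocalization.map_eq_zero_iff
    ((irr k (n + 1)).map (Ideal.Quotient.mk (J f))).primeCompl] at hx
  obtain ⟨⟨s, hs⟩, hsx⟩ := hx
  obtain ⟨a, rfl⟩ := Ideal.Quotient.mk_surjective x
  obtain ⟨b, rfl⟩ := Ideal.Quotient.mk_surjective s
  have hb : b ∉ irr k (n + 1) := fun hb => hs (Ideal.mem_map_of_mem _ hb)
  rw [mem_irr_iff] at hb
  have h1 : b * a ∈ J f := by
    rw [← Ideal.Quotient.eq_zero_iff_mem, map_mul]
    exact hsx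
  rw [Ideal.Quotient.eq_zero_iff_mem]
  exact mem_of_mul_mem_of_constantCoeff_ne_zero (1 : Fin (n + 1) → ℕ)
    (fun i => one_ne_zero) (J f) (J_isHomogeneous hf) b a hb h1

/-- **projective normality** -/
theorem isDomain_and_isIntegrallyClosed (hr : r < n)
    (hf : ∀ i, (f i).IsHomogeneous (d i)) (hd : ∀ i, 0 < d i)
    (hJ : (J f).height = r)
    (hnorm : ∀ (Q : Ideal (MvPolynomial (Fin (n + 1)) k ⧸ J f)) [Q.IsPrime],
      (∃ i, Ideal.Quotient.mk (J f) (MvPolynomial.X i) ∉ Q) →
        IsDomain (Localization.AtPrime Q) ∧ IsIntegrallyClosed (Localization.AtPrime Q)) :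
    IsDomain (MvPolynomial (Fin (n + 1)) k ⧸ J f) ∧
      IsIntegrallyClosed (MvPolynomial (Fin (n + 1)) k ⧸ J f) := by
  have hle := J_le_irr hf hd
  haveI := isPrime_irr_map hle
  -- Gorenstein, hence Cohen–Macaulay
  have hG : IsGorensteinRing (MvPolynomial (Fin (n + 1)) k) :=
    Groth.Agent.Helper3.KosBC.isGorensteinRing_mvPolynomial k
      (Groth.Agent.Helper8.GorFlat.isGorensteinRing_of_field k) (n + 1)
  have hG' : IsGorensteinRing (MvPolynomial (Fin (n + 1)) k ⧸ J f) :=
    Groth.Agent.Helper2.Gor.isGorensteinRing_quotient_span_range hG f (J f) rfl (by rw [hJ])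
  have hCM := Groth.Agent.Helper8.GorFlat.isCohenMacaulayRing_of_isGorensteinRing _ hG'
  haveI : IsNoetherianRing (MvPolynomial (Fin (n + 1)) k ⧸ J f) := inferInstance
  have hS : HasSk 2 (MvPolynomial (Fin (n + 1)) k ⧸ J f) (MvPolynomial (Fin (n + 1)) k ⧸ J f) :=
    (Groth.Agent.Helper8.Fib.isCohenMacaulayRing_iff_forall_hasSk _).1 hCM 2
  -- regular in codimension one
  have hR : HasRk 1 (MvPolynomial (Fin (n + 1)) k ⧸ J f) := by
    intro Q hQprime hQ
    have hex : ∃ i, Ideal.Quotient.mk (J f) (MvPolynomial.X i) ∉ Q := by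
      by_contra hno
      push Not at hno
      have h1 : (irr k (n + 1)).map (Ideal.Quotient.mk (J f)) ≤ Q := by
        rw [Ideal.map_span]
        refine Ideal.span_le.2 ?_
        rintro _ ⟨_, ⟨i, rfl⟩, rfl⟩
        exact hno i
      have h2 : (irr k (n + 1)).map (Ideal.Quotient.mk (J f)) = Q := by
        rcases Ideal.map_eq_top_or_isMaximal_of_surjective (Ideal.Quotient.mk (J f))
          Ideal.Quotient.mk_surjective (irr_isMaximal (F := k) (k := n + 1)) with h | h
        · rw [h] at h1
          exact absurd (top_le_iff.1 h1) hQprime.ne_top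
        · exact h.eq_of_le hQprime.ne_top h1
      have h3 := le_height_vertex_add (f := f) hle
      rw [h2] at h3
      have h4 : Q.height + (r : ℕ∞) ≤ 1 + r := by gcongr; exact_mod_cast hQ
      have h5 : ((n + 1 : ℕ) : ℕ∞) ≤ ((1 + r : ℕ) : ℕ∞) := by
        push_cast
        exact h3.trans h4
      have h6 : n + 1 ≤ 1 + r := by exact_mod_cast h5
      omega
    obtain ⟨hdom, hic⟩ := hnorm Q hex
    have hdim : ringKrullDim (Localization.AtPrime Q) ≤ 1 := by
      rw [IsLocalization.AtPrime.ringKrullDim_eq_height Q (Localization.AtPrime Q)]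
      exact_mod_cast hQ
    have hK : Ring.KrullDimLE 1 (Localization.AtPrime Q) := Ring.krullDimLE_iff.mpr hdim
    have h3 : IsIntegrallyClosed (Localization.AtPrime Q) ∧
        ∀ P : Ideal (Localization.AtPrime Q), P ≠ ⊥ → P.IsPrime →
          P = maximalIdeal (Localization.AtPrime Q) :=
      ⟨hic, fun P hP hPp =>
        eq_maximalIdeal (Ring.krullDimLE_one_iff_of_noZeroDivisors.mp hK P hP hPp)⟩
    have : IsPrincipalIdealRing (Localization.AtPrime Q) :=
      ((tfae_of_isNoetherianRing_of_isLocalRing_of_isDomain (Localization.AtPrime Q)).out 3 0).mp h3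
    infer_instance
  -- the localization at the vertex is a domain
  obtain ⟨hdomV, -⟩ := Groth.Agent.Helper8.Serre.normal_of_R1_S2 _ hR hS
    ((irr k (n + 1)).map (Ideal.Quotient.mk (J f)))
  have hinj := injective_algebraMap_vertex hf hle
  haveI hdom : IsDomain (MvPolynomial (Fin (n + 1)) k ⧸ J f) :=
    Function.Injective.isDomain _ hinj
  exact ⟨hdom, Groth.Agent.Helper8.Serre.isIntegrallyClosed_of_R1_S2 _ hR hS⟩

end Groth.Agent.Lib.Helper6.ProjNorm
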